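import Mathlib
import Cfsg.Agent.H105.SzU2_m3
import Cfsg.Agent.H129.CycRow
import Cfsg.Agent.FastGrp
import Cfsg.Agent.Prune
set_option linter.all false
prune_inst 0x7f00000000000000000000000000000000000000000000000000000000000000000000000000000000000000000000000000000000000000000000000000000000000000000000000000000000000000003fffffffffffffffffffffffffffbeffbdffffffff
open scoped Cfsg.Agent.FastGrp

/-!
# Products of two centralisers: groups with an isolated cyclic torus (helper501, S2273)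

* `Bad a b` : the group is `C(a) C(b)`;
* `szep_of_index` : an isolated cyclic subgroup `T` (equal to the centraliser of each of its
  non-trivial elements) and no proper subgroup of index `≤ |T|`;
* `szep_of_two` : two isolated cyclic subgroups.
-/

set_option autoImplicit false
set_option linter.unusedSectionVars false

namespace Cfsg.Agent.H501.SzExc

open Subgroup Cfsg.Agent.H129.CycT Cfsg.Agent.H105.Sz

variable {G : Type*} [Group G]

/-- `G = C(a) C(b)` -/
def Bad (a b : G) : Prop :=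
  ∀ g : G, ∃ x ∈ centralizer ({a} : Set G), ∃ y ∈ centralizer ({b} : Set G), g = x * y

theorem szep_iff : Szep G ↔ ∀ a b : G, a ≠ 1 → b ≠ 1 → ¬ Bad a b := by
  constructor
  · intro h a b ha hb hbad
    obtain ⟨g, hg⟩ := h a b ha hb
    obtain ⟨x, hx, y, hy, e⟩ := hbad g
    exact hg x hx y hy e
  · intro h a b ha hb
    by_contra hcon
    push Not at hcon
    exact h a b ha hb fun g => by
      obtain ⟨x, hx, y, hy, e⟩ := hcon g
      exact ⟨x, hx, y, hy, e⟩

theorem Bad.symm {a b : G} (h : Bad a b) : Bad b a := by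
  intro g
  obtain ⟨x, hx, y, hy, e⟩ := h g⁻¹
  refine ⟨y⁻¹, inv_mem hy, x⁻¹, inv_mem hx, ?_⟩
  rw [← mul_inv_rev, ← e, inv_inv]

theorem mem_cent {a x : G} : x ∈ centralizer ({a} : Set G) ↔ x * a = a * x :=
  mem_centralizer_singleton_iff

/-- powers -/
theorem cent_le_pow (a : G) (k : ℕ) : centralizer ({a} : Set G) ≤ centralizer ({a ^ k} : Set G) := by
  intro x hx
  rw [mem_cent] at hx ⊢
  exact (show Commute x a from hx).pow_right k

theorem Bad.pow {a b : G} (h : Bad a b) (k l : ℕ) : Bad (a ^ k) (b ^ l) := by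
  intro g
  obtain ⟨x, hx, y, hy, e⟩ := h g
  exact ⟨x, cent_le_pow a k hx, y, cent_le_pow b l hy, e⟩

/-- conjugates -/
theorem Bad.conj {a b : G} (h : Bad a b) (u v : G) : Bad (u * a * u⁻¹) (v * b * v⁻¹) := by
  have key : ∀ c w x : G, x ∈ centralizer ({c} : Set G) → w * x * w⁻¹ ∈ centralizer ({w * c * w⁻¹} : Set G) := by
    intro c w x hx
    rw [mem_cent] at hx ⊢
    calc w * x * w⁻¹ * (w * c * w⁻¹) = w * (x * c) * w⁻¹ := by group
      _ = w * (c * x) * w⁻¹ := by rw [hx]
      _ = w * c * w⁻¹ * (w * x * w⁻¹) := by group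
  intro g
  -- `u x u⁻¹ v y v⁻¹ = g`
  obtain ⟨x, hx, y, hy, e⟩ := h (u⁻¹ * g * v)
  obtain ⟨x1, hx1, y1, hy1, e1⟩ := h (u⁻¹ * v)
  refine ⟨u * (x * x1⁻¹) * u⁻¹, key a u _ (mul_mem hx (inv_mem hx1)), v * (y1⁻¹ * y) * v⁻¹,
    key b v _ (mul_mem (inv_mem hy1) hy), ?_⟩
  have e2 : u⁻¹ * v = x1 * y1 := e1
  have e3 : u * (x * x1⁻¹) * u⁻¹ * (v * (y1⁻¹ * y) * v⁻¹) = u * (x * x1⁻¹ * (u⁻¹ * v) * (y1⁻¹ * y)) * v⁻¹ := by group
  rw [e3, e2]
  have e4 : x * x1⁻¹ * (x1 * y1) * (y1⁻¹ * y) = x * y := by group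
  rw [e4, ← e]
  group

theorem card_centralizer_conj (a u : G) : Nat.card ↥(centralizer ({u * a * u⁻¹} : Set G)) =
    Nat.card ↥(centralizer ({a} : Set G)) := by
  have e : centralizer ({u * a * u⁻¹} : Set G) = (centralizer ({a} : Set G)).map (MulAut.conj u).toMonoidHom := by
    ext z
    rw [mem_cent, mem_map]
    constructor
    · intro hz
      refine ⟨u⁻¹ * z * u, ?_, ?_⟩
      · rw [mem_cent]
        have e1 : u⁻¹ * z * u * a = u⁻¹ * (z * (u * a * u⁻¹)) * u := by group
        rw [e1, hz]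
        group
      · show u * (u⁻¹ * z * u) * u⁻¹ = z
        group
    · rintro ⟨x, hx, rfl⟩
      rw [mem_cent] at hx
      show u * x * u⁻¹ * (u * a * u⁻¹) = u * a * u⁻¹ * (u * x * u⁻¹)
      calc u * x * u⁻¹ * (u * a * u⁻¹) = u * (x * a) * u⁻¹ := by group
        _ = u * (a * x) * u⁻¹ := by rw [hx]
        _ = _ := by group
  rw [e]
  exact (Nat.card_congr ((centralizer ({a} : Set G)).equivMapOfInjective _ (MulAut.conj u).injective).toEquiv).symm

variable [Finite G]

/-- the counting formula -/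
theorem Bad.card {a b : G} (h : Bad a b) : Nat.card G *
    Nat.card ↥(centralizer ({a} : Set G) ⊓ centralizer ({b} : Set G) : Subgroup G) =
      Nat.card ↥(centralizer ({a} : Set G)) * Nat.card ↥(centralizer ({b} : Set G)) := by
  set A := centralizer ({a} : Set G) with hA
  set B := centralizer ({b} : Set G) with hB
  -- the map `A → G ⧸ B`
  have h1 : (B.subgroupOf A).index = B.index := by
    show Nat.card (↥A ⧸ B.subgroupOf A) = Nat.card (G ⧸ B)
    refine Nat.card_congr (Equiv.ofBijective (Quotient.map' (fun x : ↥A => (x : G)) ?_) ⟨?_, ?_⟩)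
    · intro x y hxy
      rw [QuotientGroup.leftRel_apply] at hxy ⊢
      exact hxy
    · intro x y
      induction x using QuotientGroup.induction_on with
      | _ x =>
        induction y using QuotientGroup.induction_on with
        | _ y =>
          intro hxy
          have h2 : (QuotientGroup.mk (x : G) : G ⧸ B) = QuotientGroup.mk (y : G) := hxy
          rw [QuotientGroup.eq] at h2 ⊢
          exact h2
    · intro y
      induction y using QuotientGroup.induction_on with
      | _ g =>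
        obtain ⟨x, hx, y, hy, e⟩ := h g
        refine ⟨QuotientGroup.mk ⟨x, hx⟩, ?_⟩
        show (QuotientGroup.mk x : G ⧸ B) = QuotientGroup.mk g
        rw [QuotientGroup.eq, e]
        have : x⁻¹ * (x * y) = y := by group
        rw [this]
        exact hy
  have h2 := card_mul_index B
  have h3 := card_mul_index (B.subgroupOf A)
  rw [h1] at h3
  have h4 : Nat.card ↥(B.subgroupOf A) = Nat.card ↥(A ⊓ B : Subgroup G) := by
    rw [← inf_subgroupOf_left]
    exact Nat.card_congr (subgroupOfEquivOfLe (inf_le_left : A ⊓ B ≤ A)).toEquiv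
  rw [h4] at h3
  calc Nat.card G * Nat.card ↥(A ⊓ B : Subgroup G) = Nat.card ↥B * B.index * Nat.card ↥(A ⊓ B : Subgroup G) := by
        rw [h2]
    _ = (Nat.card ↥(A ⊓ B : Subgroup G) * B.index) * Nat.card ↥B := by ring
    _ = _ := by rw [h3]

theorem Bad.index_dvd {a b : G} (h : Bad a b) :
    (centralizer ({b} : Set G)).index ∣ Nat.card ↥(centralizer ({a} : Set G)) := by
  have h1 := h.card
  have h2 := card_mul_index (centralizer ({b} : Set G))
  have h0 : 0 < Nat.card ↥(centralizer ({b} : Set G)) := Nat.card_pos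
  refine ⟨Nat.card ↥(centralizer ({a} : Set G) ⊓ centralizer ({b} : Set G) : Subgroup G),
    Nat.eq_of_mul_eq_mul_left h0 ?_⟩
  rw [← mul_assoc, h2, h1, mul_comm]

theorem Bad.dvd_or {a b : G} (h : Bad a b) {r : ℕ} (hr : r.Prime) (hd : r ∣ Nat.card G) :
    r ∣ Nat.card ↥(centralizer ({a} : Set G)) ∨ r ∣ Nat.card ↥(centralizer ({b} : Set G)) :=
  hr.dvd_mul.1 (h.card ▸ hd.mul_right _)

/-- an isolated torus: if a prime divisor of its order divides `|C(a)|`, then `|C(a)| = m` -/
theorem card_cent {m r : ℕ} (h : CycExact G m) (hr : r.Prime) (hrm : r ∣ m) {a : G} (ha : a ≠ 1)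
    (hd : r ∣ Nat.card ↥(centralizer ({a} : Set G))) : Nat.card ↥(centralizer ({a} : Set G)) = m := by
  have : Fact r.Prime := ⟨hr⟩
  obtain ⟨T, h1, h2, h3⟩ := h
  obtain ⟨⟨x, hxa⟩, hx⟩ := exists_prime_orderOf_dvd_card' r hd
  rw [Subgroup.orderOf_mk] at hx
  obtain ⟨g, -, hg⟩ := centralizer_conj h1 hr (h2 ▸ hrm) (fun y hy hyr => (h3 y hy (by
    rintro rfl
    rw [orderOf_one] at hyr
    exact hr.one_lt.ne hyr)).le) hx
  have h4 : g * a * g⁻¹ ∈ T := (hg a).1 (mem_cent.2 (mem_cent.1 hxa).symm)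
  have h5 : g * a * g⁻¹ ≠ 1 := by
    intro h6
    apply ha
    have : a = g⁻¹ * (g * a * g⁻¹) * g := by group
    rw [this, h6]
    group
  rw [← card_centralizer_conj a g, h3 _ h4 h5, h2]

/-- **One isolated cyclic subgroup and a bound for the indices.** -/
theorem szep_of_index {m : ℕ} (hm : 1 < m) (h : CycExact G m) (hZ : center G = ⊥)
    (hidx : ∀ H : Subgroup G, H ≠ ⊤ → m < H.index) : Szep G := by
  rw [szep_iff]
  intro a b ha hb hbad
  obtain ⟨r, hr, hrm⟩ := Nat.exists_prime_and_dvd hm.ne'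
  have hrG : r ∣ Nat.card G := by
    obtain ⟨T, -, h2, -⟩ := h
    exact (h2 ▸ hrm).trans (card_subgroup_dvd_card T)
  have key : ∀ a b : G, a ≠ 1 → b ≠ 1 → Bad a b → ¬ r ∣ Nat.card ↥(centralizer ({a} : Set G)) := by
    intro a b ha hb hbad hd
    have h1 := card_cent h hr hrm ha hd
    have h2 := Nat.le_of_dvd Nat.card_pos hbad.index_dvd
    rw [h1] at h2
    have h3 : centralizer ({b} : Set G) ≠ ⊤ := by
      intro h4
      have h5 : b ∈ center G := by
        rw [mem_center_iff]
        intro g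
        exact mem_cent.1 (h4 ▸ mem_top g)
      rw [hZ, mem_bot] at h5
      exact hb h5
    exact absurd (hidx _ h3) (by omega)
  rcases hbad.dvd_or hr hrG with h1 | h1
  · exact key a b ha hb hbad h1
  · exact key b a hb ha hbad.symm h1

/-- **Two isolated cyclic subgroups.** -/
theorem szep_of_two {m n p : ℕ} (hm : 1 < m) (hn : 1 < n) (h : CycExact G m) (h' : CycExact G n) (hmn : m ≠ n)
    (hp : p.Prime) (hpG : p ∣ Nat.card G) (hpm : ¬ p ∣ m) (hpn : ¬ p ∣ n) : Szep G := by
  rw [szep_iff]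
  intro a b ha hb hbad
  obtain ⟨r, hr, hrm⟩ := Nat.exists_prime_and_dvd hm.ne'
  obtain ⟨s, hs, hsn⟩ := Nat.exists_prime_and_dvd hn.ne'
  have hrG : r ∣ Nat.card G := by
    obtain ⟨T, -, h2, -⟩ := h
    exact (h2 ▸ hrm).trans (card_subgroup_dvd_card T)
  have hsG : s ∣ Nat.card G := by
    obtain ⟨T, -, h2, -⟩ := h'
    exact (h2 ▸ hsn).trans (card_subgroup_dvd_card T)
  have key : ∀ a b : G, a ≠ 1 → b ≠ 1 → Bad a b → ¬ r ∣ Nat.card ↥(centralizer ({a} : Set G)) := by
    intro a b ha hb hbad hd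
    have h1 := card_cent h hr hrm ha hd
    rcases hbad.dvd_or hs hsG with h2 | h2
    · exact hmn (h1.symm.trans (card_cent h' hs hsn ha h2))
    · have h3 := card_cent h' hs hsn hb h2
      rcases hbad.dvd_or hp hpG with h4 | h4
      · exact hpm (h1 ▸ h4)
      · exact hpn (h3 ▸ h4)
  rcases hbad.dvd_or hr hrG with h1 | h1
  · exact key a b ha hb hbad h1
  · exact key b a hb ha hbad.symm h1

/-- from `HasCyc` -/
theorem exact_of_hasCyc {r : ℕ} (h : Cfsg.Agent.H182.Cent.HasCyc G r) : ∃ m, r ∣ m ∧ CycExact G m := by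
  obtain ⟨T, h1, h2, h3⟩ := h
  exact ⟨Nat.card T, h1, T, h2, rfl, fun y hy hy1 => le_antisymm (h3 y hy hy1) (le_centralizer_of_cyclic h2 hy)⟩

theorem center_eq_bot [IsSimpleGroup G] (h : ¬ IsMulCommutative G) : center G = ⊥ := by
  rcases (inferInstance : (center G).Normal).eq_bot_or_eq_top with h1 | h1
  · exact h1
  · exfalso
    apply h
    rw [isMulCommutative_iff]
    intro a b
    have h2 : a ∈ center G := h1 ▸ mem_top a
    exact (mem_center_iff.1 h2 b).symm

end Cfsg.Agent.H501.SzExc
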